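import Groth.Agent.SymX.Gen
import Groth.Agent.QCoh.PullbackBC
import Groth.Prelude.Def_RelProj4

/-!
# Symmetric algebras and change of base
-/

universe u

open CategoryTheory CategoryTheory.Limits AlgebraicGeometry TopologicalSpace Opposite

set_option backward.isDefEq.respectTransparency false
set_option backward.isDefEq.respectTransparency.types false
set_option linter.style.haveILetI false

noncomputable section

namespace Groth.Agent.VBundle

open Groth.Agent

variable {S : Scheme.{u}} {E : S.Modules} {A : RelSpec.QCAlg S} {j : E ⟶ A.toModule}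

theorem hom_ext_affine (hE : Coh.IsQCoh E) (hA : RelSpec.IsSymAlg E A j) {U : S.Opens} (hU : IsAffineOpen U)
    {T : Type u} [CommRing T] {F G : A.presheaf.obj (op U) →+* T}
    (h₀ : ∀ r, F ((A.str.app (op U)).hom r) = G ((A.str.app (op U)).hom r))
    (h₁ : ∀ x, F (j.app U x) = G (j.app U x)) : F = G := by
  obtain ⟨e, he0, he1⟩ := SymX.exists_symEquiv hE hA ⟨U, hU⟩
  refine (RingHom.cancel_right (f := e.toRingHom) e.surjective).mp (SymX.ringHom_ext (fun r => ?_) fun x => ?_)
  · show F (e _) = G (e _)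
    rw [he0]; exact h₀ r
  · show F (e _) = G (e _)
    rw [he1]; exact h₁ x

theorem exists_hom_affine (hE : Coh.IsQCoh E) (hA : RelSpec.IsSymAlg E A j) {U : S.Opens} (hU : IsAffineOpen U)
    {T : Type u} [CommRing T] (α : Γ(S, U) →+* T) (l : Γ(E, U) →+ T) (hl : ∀ r x, l (r • x) = α r * l x) :
    ∃ F : A.presheaf.obj (op U) →+* T,
      (∀ r, F ((A.str.app (op U)).hom r) = α r) ∧ ∀ x, F (j.app U x) = l x := by
  obtain ⟨e, he0, he1⟩ := SymX.exists_symEquiv hE hA ⟨U, hU⟩
  letI : Algebra Γ(S, U) T := α.toAlgebra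
  let l' : Γ(E, U) →ₗ[Γ(S, U)] T :=
    { toFun := l, map_add' := map_add l, map_smul' := fun r x => hl r x }
  refine ⟨((SymmetricAlgebra.lift l').toRingHom).comp e.symm.toRingHom, fun r => ?_, fun x => ?_⟩
  · show SymmetricAlgebra.lift l' (e.symm _) = _
    rw [← he0, e.symm_apply_apply]
    exact AlgHom.commutes _ r
  · show SymmetricAlgebra.lift l' (e.symm _) = _
    rw [← he1, e.symm_apply_apply]
    exact SymmetricAlgebra.lift_ι_apply l' x

variable {S' : Scheme.{u}} (g : S' ⟶ S) {B : RelSpec.QCAlg S'}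
  {j' : (Scheme.Modules.pullback g).obj E ⟶ B.toModule}

theorem isQBaseChange (hE : Coh.IsQCoh E) (hA : RelSpec.IsSymAlg E A j)
    (hB : RelSpec.IsSymAlg ((Scheme.Modules.pullback g).obj E) B j') (u : RelSpec.QHom g A B)
    (hu : ∀ (U : S.Opens) (x : Γ(E, U)),
      (u.app U).hom ((j.app U) x) =
        (j'.app (g ⁻¹ᵁ U)) (((Scheme.Modules.pullbackPushforwardAdjunction g).unit.app E).app U x)) :
    RelSpec.IsQBaseChange u := by
  intro U hU W hW hle
  let N := (Scheme.Modules.pullback g).obj E
  have hN : Coh.IsQCoh N := QCoh.isQCoh_pullback g hE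
  letI : Algebra Γ(S, U) Γ(S', W) := (g.appLE U W hle).hom.toAlgebra
  letI : Module Γ(S, U) Γ(N, W) := Module.compHom _ (g.appLE U W hle).hom
  haveI : IsScalarTower Γ(S, U) Γ(S', W) Γ(N, W) := ⟨fun a b c => mul_smul ((g.appLE U W hle).hom a) b c⟩
  let l : Γ(E, U) →ₗ[Γ(S, U)] Γ(N, W) :=
    { toFun := QCoh.pullSec g E hle
      map_add' := QCoh.pullSec_add g E hle
      map_smul' := QCoh.pullSec_smul g E hle }
  have hbc : IsBaseChange Γ(S', W) l := QCoh.isBaseChange_pullback hU g hW hE hle (fun r => rfl) l fun x => rfl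
  have hju : ∀ x : Γ(E, U), (u.appLE U W hle).hom (j.app U x) = j'.app W (l x) := fun x => by
    show (B.presheaf.map (homOfLE hle).op).hom ((u.app U).hom (j.app U x)) = _
    rw [hu U x]
    exact (AModX.app_res j' hle _).symm
  have hw : g.appLE U W hle ≫ B.str.app (op W) = A.str.app (op U) ≫ u.appLE U W hle :=
    (RelSpec.QHom.str_appLE u U W hle).symm
  refine ⟨⟨hw⟩, ⟨PushoutCocone.isColimitAux' _ fun s => ?_⟩⟩
  let T := s.pt
  let α : Γ(S', W) →+* T := s.inl.hom
  let β : A.presheaf.obj (op U) →+* T := s.inr.hom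
  have hs : ∀ r : Γ(S, U), α ((g.appLE U W hle).hom r) = β ((A.str.app (op U)).hom r) := fun r =>
    congr($(s.condition).hom r)
  letI : Module Γ(S', W) T := Module.compHom T α
  letI : Module Γ(S, U) T := Module.compHom T (α.comp (g.appLE U W hle).hom)
  haveI : IsScalarTower Γ(S, U) Γ(S', W) T :=
    ⟨fun a b c => by
      show α (a • b) * c = α ((g.appLE U W hle).hom a) * (α b * c)
      rw [Algebra.smul_def, map_mul, mul_assoc]; rfl⟩
  let b : Γ(E, U) →ₗ[Γ(S, U)] T :=
    { toFun := fun x => β (j.app U x)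
      map_add' := fun x y => by
        show β _ = β _ + β _
        exact (congrArg β ((ConcreteCategory.hom (j.app U)).map_add x y)).trans (map_add β _ _)
      map_smul' := fun r x => by
        show β (j.app U (r • x)) = α ((g.appLE U W hle).hom r) * β (j.app U x)
        rw [Scheme.Modules.Hom.app_smul, hs, ← map_mul]; rfl }
  have hex := exists_hom_affine hN hB hW α (hbc.lift b).toAddMonoidHom
    fun r x => (hbc.lift b).map_smul r x
  let F : B.presheaf.obj (op W) →+* T := hex.choose
  have hF0 : ∀ r, F ((B.str.app (op W)).hom r) = α r := hex.choose_spec.1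
  have hF1 : ∀ y, F (j'.app W y) = (hbc.lift b) y := hex.choose_spec.2
  refine ⟨CommRingCat.ofHom F, CommRingCat.hom_ext (RingHom.ext hF0), ?_, fun {m} hm₁ hm₂ => ?_⟩
  · refine CommRingCat.hom_ext (hom_ext_affine hE hA hU (fun r => ?_) fun x => ?_)
    · show F ((u.appLE U W hle).hom ((A.str.app (op U)).hom r)) = β _
      rw [← hs, ← CommRingCat.comp_apply, ← hw]
      exact hF0 _
    · show F ((u.appLE U W hle).hom (j.app U x)) = β _
      rw [hju, hF1]
      exact hbc.lift_eq b x
  · have h₁ : ∀ r, m.hom ((B.str.app (op W)).hom r) = α r := fun r => congr($(hm₁).hom r)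
    refine CommRingCat.hom_ext (hom_ext_affine hN hB hW (fun r => (h₁ r).trans (hF0 r).symm) fun y => ?_)
    show m.hom (j'.app W y) = F (j'.app W y)
    rw [hF1 y]
    induction y using hbc.inductionOn with
    | zero =>
      rw [map_zero]
      exact (map_zero m.hom).trans (map_zero (hbc.lift b)).symm
    | tmul x =>
      refine (congrArg m.hom (hju x).symm).trans ((congr($(hm₂).hom (j.app U x))).trans ?_)
      exact (hbc.lift_eq b x).symm
    | smul r y hy =>
      rw [Scheme.Modules.Hom.app_smul]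
      refine (map_mul m.hom _ _).trans ?_
      rw [h₁, hy]
      exact ((hbc.lift b).map_smul r y).symm
    | add y y' hy hy' =>
      rw [map_add]
      refine (map_add m.hom _ _).trans ?_
      rw [hy, hy']
      exact (map_add (hbc.lift b) y y').symm

end Groth.Agent.VBundle
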