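import Groth.Agent.VBundle.Pushout
import Groth.Agent.RelSpecX.Spec

/-!
# The vector bundle of a direct sum
-/

universe u

open CategoryTheory CategoryTheory.Limits AlgebraicGeometry TopologicalSpace Opposite

set_option backward.isDefEq.respectTransparency false
set_option backward.isDefEq.respectTransparency.types false
set_option linter.style.haveILetI false

noncomputable section

namespace Groth.Agent.VBundle

open Groth.Agent

variable {S : Scheme.{u}}

/-- A square of algebras which is a pushout on affine opens gives a pullback of spectra. -/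
theorem isPullback_specMap {A₁ A₂ A : RelSpec.QCAlg S} (ψ₁ : A₁ ⟶ A) (ψ₂ : A₂ ⟶ A)
    (H : ∀ (U : S.Opens), IsAffineOpen U →
      IsPushout (A₁.str.app (op U)) (A₂.str.app (op U)) (ψ₁.hom.app (op U)) (ψ₂.hom.app (op U))) :
    IsPullback (RelSpec.QCAlg.specMap ψ₁) (RelSpec.QCAlg.specMap ψ₂) A₁.π A₂.π := by
  have w : RelSpec.QCAlg.specMap ψ₁ ≫ A₁.π = RelSpec.QCAlg.specMap ψ₂ ≫ A₂.π := by
    rw [RelSpec.QCAlg.specMap_π, RelSpec.QCAlg.specMap_π]
  refine IsPullback.of_iso_pullback ⟨w⟩ (@asIso _ _ _ _ (pullback.lift _ _ w) ?_)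
    (pullback.lift_fst _ _ _) (pullback.lift_snd _ _ _)
  set c := pullback.lift _ _ w
  refine (IsZariskiLocalAtTarget.iff_of_iSup_eq_top (P := MorphismProperty.isomorphisms Scheme.{u})
    (f := c) (fun U : S.affineOpens => pullback.snd A₁.π A₂.π ⁻¹ᵁ (A₂.π ⁻¹ᵁ U.1)) ?_).mpr fun U => ?_
  · rw [← Scheme.Hom.preimage_iSup, ← Scheme.Hom.preimage_iSup, iSup_affineOpens_eq_top, Scheme.Hom.preimage_top,
      Scheme.Hom.preimage_top]
  have hout : IsPullback (A.ι U.1 U.2 ≫ RelSpec.QCAlg.specMap ψ₁) (Spec.map (ψ₂.hom.app (op U.1))) A₁.π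
      (A₂.ι U.1 U.2 ≫ A₂.π) := by
    rw [RelSpec.QCAlg.ι_specMap U.1 U.2 ψ₁, A₂.ι_π]
    exact (isPullback_SpecMap_of_isPushout _ _ _ _ (H U.1 U.2)).paste_horiz (RelSpecX.isPullback_ι U.1 U.2)
  have hk : IsPullback (A.ι U.1 U.2 ≫ c) (Spec.map (ψ₂.hom.app (op U.1))) (pullback.snd A₁.π A₂.π)
      (A₂.ι U.1 U.2) :=
    IsPullback.of_right (by rw [Category.assoc, pullback.lift_fst]; exact hout)
      (by rw [Category.assoc, pullback.lift_snd, RelSpec.QCAlg.ι_specMap U.1 U.2 ψ₂])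
      (IsPullback.of_hasPullback A₁.π A₂.π)
  set V := pullback.snd A₁.π A₂.π ⁻¹ᵁ (A₂.π ⁻¹ᵁ U.1) with hV
  have : IsOpenImmersion (A.ι U.1 U.2 ≫ c) := MorphismProperty.of_isPullback hk.flip inferInstance
  have hrange : Set.range (A.ι U.1 U.2 ≫ c) = Set.range V.ι := by
    rw [← hk.isoPullback_hom_fst, Scheme.Opens.range_ι]
    simp only [Scheme.Hom.comp_base, TopCat.hom_comp, ContinuousMap.coe_comp]
    rw [Set.range_comp, Set.range_eq_univ.mpr, Set.image_univ, Scheme.Pullback.range_fst]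
    · rw [hV, A₂.π_preimage U.1 U.2]; rfl
    · exact hk.isoPullback.hom.surjective
  have hpre : c ⁻¹ᵁ V = A.π ⁻¹ᵁ U.1 := by
    show (c ≫ pullback.snd A₁.π A₂.π) ⁻¹ᵁ (A₂.π ⁻¹ᵁ U.1) = _
    rw [pullback.lift_snd, ← Scheme.Hom.comp_preimage, RelSpec.QCAlg.specMap_π]
  have hr' : Set.range (c ⁻¹ᵁ V).ι = Set.range (A.ι U.1 U.2) := by
    rw [Scheme.Opens.range_ι, hpre, A.π_preimage U.1 U.2]
    rfl
  show IsIso (c ∣_ V)
  have key : c ∣_ V = (IsOpenImmersion.isoOfRangeEq (c ⁻¹ᵁ V).ι (A.ι U.1 U.2) hr').hom ≫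
      (IsOpenImmersion.isoOfRangeEq (A.ι U.1 U.2 ≫ c) V.ι hrange).hom := by
    rw [← cancel_mono V.ι, morphismRestrict_ι, Category.assoc,
      IsOpenImmersion.isoOfRangeEq_hom_fac, IsOpenImmersion.isoOfRangeEq_hom_fac_assoc]
  rw [key]
  infer_instance

variable {E F : S.Modules} {AE AF A : RelSpec.QCAlg S} {jE : E ⟶ AE.toModule} {jF : F ⟶ AF.toModule}
  {j : E ⊞ F ⟶ A.toModule} {ψE : AE ⟶ A} {ψF : AF ⟶ A}

lemma total_app (U : S.Opens) (x : Γ(E ⊞ F, U)) :
    x = (biprod.inl : E ⟶ E ⊞ F).app U ((biprod.fst : E ⊞ F ⟶ E).app U x) + (biprod.inr : F ⟶ E ⊞ F).app U ((biprod.snd : E ⊞ F ⟶ F).app U x) := by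
  have h := congrArg (fun k : E ⊞ F ⟶ E ⊞ F => k.app U x) (biprod.total (X := E) (Y := F))
  exact h.symm

theorem isPushout_biprod (hE : Coh.IsQCoh E) (hF : Coh.IsQCoh F) (hEF : Coh.IsQCoh (E ⊞ F))
    (hAE : RelSpec.IsSymAlg E AE jE) (hAF : RelSpec.IsSymAlg F AF jF) (hA : RelSpec.IsSymAlg (E ⊞ F) A j)
    (hψE : jE ≫ RelSpec.QCAlg.Hom.toModuleMap ψE = biprod.inl ≫ j)
    (hψF : jF ≫ RelSpec.QCAlg.Hom.toModuleMap ψF = biprod.inr ≫ j) (U : S.Opens) (hU : IsAffineOpen U) :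
    IsPushout (AE.str.app (op U)) (AF.str.app (op U)) (ψE.hom.app (op U)) (ψF.hom.app (op U)) := by
  have hE' : ∀ x, (ψE.hom.app (op U)).hom (jE.app U x) = j.app U ((biprod.inl : E ⟶ E ⊞ F).app U x) := fun x =>
    congrArg (fun k : E ⟶ A.toModule => k.app U x) hψE
  have hF' : ∀ x, (ψF.hom.app (op U)).hom (jF.app U x) = j.app U ((biprod.inr : F ⟶ E ⊞ F).app U x) := fun x =>
    congrArg (fun k : F ⟶ A.toModule => k.app U x) hψF
  have hw : AE.str.app (op U) ≫ ψE.hom.app (op U) = AF.str.app (op U) ≫ ψF.hom.app (op U) := by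
    rw [← NatTrans.comp_app, ← NatTrans.comp_app, ψE.comm, ψF.comm]
  have hsE : ∀ r, (ψE.hom.app (op U)).hom ((AE.str.app (op U)).hom r) = (A.str.app (op U)).hom r := fun r =>
    congr($(NatTrans.congr_app ψE.comm (op U)).hom r)
  refine ⟨⟨hw⟩, ⟨PushoutCocone.isColimitAux' _ fun s => ?_⟩⟩
  let α : AE.presheaf.obj (op U) →+* s.pt := s.inl.hom
  let β : AF.presheaf.obj (op U) →+* s.pt := s.inr.hom
  have hs : ∀ r, α ((AE.str.app (op U)).hom r) = β ((AF.str.app (op U)).hom r) := fun r =>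
    congr($(s.condition).hom r)
  let l : Γ(E ⊞ F, U) →+ s.pt :=
    (α.toAddMonoidHom.comp ((jE.app U).hom.comp ((biprod.fst : E ⊞ F ⟶ E).app U).hom)) +
      (β.toAddMonoidHom.comp ((jF.app U).hom.comp ((biprod.snd : E ⊞ F ⟶ F).app U).hom))
  have hex := exists_hom_affine hEF hA hU (α.comp (AE.str.app (op U)).hom) l fun r x => by
    show α (jE.app U ((biprod.fst : E ⊞ F ⟶ E).app U (r • x))) + β (jF.app U ((biprod.snd : E ⊞ F ⟶ F).app U (r • x))) = _
    rw [Scheme.Modules.Hom.app_smul, Scheme.Modules.Hom.app_smul, Scheme.Modules.Hom.app_smul,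
      Scheme.Modules.Hom.app_smul]
    show α ((AE.str.app (op U)).hom r * _) + β ((AF.str.app (op U)).hom r * _) = _
    rw [map_mul, map_mul, ← hs, ← mul_add]
    rfl
  let G : A.presheaf.obj (op U) →+* s.pt := hex.choose
  have hG0 : ∀ r, G ((A.str.app (op U)).hom r) = α ((AE.str.app (op U)).hom r) := hex.choose_spec.1
  have hG1 : ∀ x, G (j.app U x) = l x := hex.choose_spec.2
  refine ⟨CommRingCat.ofHom G, ?_, ?_, fun {m} hm₁ hm₂ => ?_⟩
  · refine CommRingCat.hom_ext (hom_ext_affine hE hAE hU (fun r => ?_) fun x => ?_)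
    · show G ((ψE.hom.app (op U)).hom _) = α _
      rw [hsE, hG0]
    · show G ((ψE.hom.app (op U)).hom (jE.app U x)) = α _
      rw [hE', hG1]
      show α (jE.app U _) + β (jF.app U _) = _
      rw [show (biprod.fst : E ⊞ F ⟶ E).app U ((biprod.inl : E ⟶ E ⊞ F).app U x) = x from
          congrArg (fun k : E ⟶ E => k.app U x) biprod.inl_fst,
        show (biprod.snd : E ⊞ F ⟶ F).app U ((biprod.inl : E ⟶ E ⊞ F).app U x) = 0 from
          congrArg (fun k : E ⟶ F => k.app U x) biprod.inl_snd]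
      rw [map_zero]
      exact (congrArg (α (jE.app U x) + ·) (map_zero β)).trans (add_zero _)
  · refine CommRingCat.hom_ext (hom_ext_affine hF hAF hU (fun r => ?_) fun x => ?_)
    · show G ((ψF.hom.app (op U)).hom _) = β _
      rw [show (ψF.hom.app (op U)).hom ((AF.str.app (op U)).hom r) = (A.str.app (op U)).hom r from
        congr($(NatTrans.congr_app ψF.comm (op U)).hom r), hG0, hs]
    · show G ((ψF.hom.app (op U)).hom (jF.app U x)) = β _
      rw [hF', hG1]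
      show α (jE.app U _) + β (jF.app U _) = _
      rw [show (biprod.snd : E ⊞ F ⟶ F).app U ((biprod.inr : F ⟶ E ⊞ F).app U x) = x from
          congrArg (fun k : F ⟶ F => k.app U x) biprod.inr_snd,
        show (biprod.fst : E ⊞ F ⟶ E).app U ((biprod.inr : F ⟶ E ⊞ F).app U x) = 0 from
          congrArg (fun k : F ⟶ E => k.app U x) biprod.inr_fst]
      rw [map_zero]
      exact (congrArg (· + β (jF.app U x)) (map_zero α)).trans (zero_add _)
  · refine CommRingCat.hom_ext (hom_ext_affine hEF hA hU (fun r => ?_) fun x => ?_)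
    · show m.hom _ = G _
      rw [hG0, ← hsE r]
      exact congr($(hm₁).hom _)
    · show m.hom (j.app U x) = G (j.app U x)
      rw [hG1]
      conv_lhs => rw [total_app U x, map_add]
      refine (map_add m.hom _ _).trans ?_
      rw [← hE', ← hF']
      exact congr($(congr($(hm₁).hom (jE.app U ((biprod.fst : E ⊞ F ⟶ E).app U x)))) +
        $(congr($(hm₂).hom (jF.app U ((biprod.snd : E ⊞ F ⟶ F).app U x)))))

end Groth.Agent.VBundle
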